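import Groth.Agent.ExtShX.ExtPowTop
import Groth.Agent.GeomField.GlobalFunctions
import Groth.Prelude.Def_SecTwist
import Groth.Agent.AmpleX.QAGenerated

/-!
Multiplication of sections of a vector bundle with its determinant has a kernel (Cramer's rule).
-/

set_option autoImplicit false
set_option linter.style.haveILetI false
set_option linter.unusedSectionVars false
set_option backward.isDefEq.respectTransparency false
set_option backward.isDefEq.respectTransparency.types false
set_option maxHeartbeats 800000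

universe u

open CategoryTheory CategoryTheory.Limits AlgebraicGeometry TopologicalSpace Opposite MonoidalCategory
open scoped TensorProduct

noncomputable section

namespace Groth.Agent.DetKernel

open Groth.Agent Groth.Agent.AModX

/-- An alternating map in more arguments than the size of a basis vanishes. -/
theorem alternating_eq_zero {R M N : Type*} [CommRing R] [AddCommGroup M] [Module R M] [AddCommGroup N] [Module R N]
    {r : ℕ} (b : Module.Basis (Fin r) R M) (g : M [⋀^Fin (r + 1)]→ₗ[R] N) : g = 0 :=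
  b.ext_alternating fun v hv => absurd (Fintype.card_le_of_injective v hv) (by simp)

/-- Cramer's rule in the tensor product with a module isomorphic to the exterior power. -/
theorem cramer {R M D : Type*} [CommRing R] [AddCommGroup M] [Module R M] [AddCommGroup D] [Module R D]
    {r : ℕ} (b : Module.Basis (Fin r) R M) (φ : D ≃ₗ[R] ↥(⋀[R]^r M)) (v : Fin (r + 1) → M) :
    ∑ i : Fin (r + 1), (-1) ^ (i : ℕ) • (v i ⊗ₜ[R] φ.symm (exteriorPower.ιMulti R r (i.removeNth v))) = 0 := by
  let f : M →ₗ[R] M [⋀^Fin r]→ₗ[R] M ⊗[R] D :=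
    { toFun := fun m => ((TensorProduct.mk R M D m).comp φ.symm.toLinearMap).compAlternatingMap
        (exteriorPower.ιMulti R r)
      map_add' := fun m m' => AlternatingMap.ext fun w => TensorProduct.add_tmul _ _ _
      map_smul' := fun c m => AlternatingMap.ext fun w => TensorProduct.smul_tmul' _ _ _ |>.symm }
  exact (AlternatingMap.alternatizeUncurryFin_apply f v).symm.trans (by rw [alternating_eq_zero b (AlternatingMap.alternatizeUncurryFin f)]; rfl)

/-- A separating functional detects one term of a sum of pure tensors. -/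
theorem tmul_sum_ne_zero {R K M D : Type*} [CommRing R] [Field K] (e : K ≃+* R) [AddCommGroup M] [Module R M]
    [AddCommGroup D] [Module R D] {r : ℕ} (v : Fin (r + 1) → M) (w : Fin (r + 1) → D)
    (hv : v 0 ∉ Submodule.span R (Set.range fun i : Fin r => v i.succ)) (hw : w 0 ≠ 0) :
    ∑ i : Fin (r + 1), (-1) ^ (i : ℕ) • (v i ⊗ₜ[R] w i) ≠ 0 := by
  intro h
  have hf : IsField R := MulEquiv.isField (Field.toIsField K) e.symm.toMulEquiv
  letI := hf.toField
  obtain ⟨f, hf0, hfS⟩ := Submodule.exists_dual_map_eq_bot_of_notMem hv inferInstance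
  have h' := congrArg ((TensorProduct.lid R D).toLinearMap ∘ₗ f.rTensor D) h
  simp only [map_sum, map_zsmul, LinearMap.comp_apply, LinearEquiv.coe_coe, LinearMap.rTensor_tmul,
    TensorProduct.lid_tmul, map_zero] at h'
  rw [Finset.sum_eq_single 0 ?_ (fun hn => absurd (Finset.mem_univ _) hn)] at h'
  · simp [hf0, hw] at h'
  · intro i _ hi
    obtain ⟨j, rfl⟩ := Fin.exists_succ_eq.2 hi
    rw [show f (v j.succ) = 0 from (Submodule.mem_bot R).1 (hfS ▸ Submodule.mem_map_of_mem (Submodule.subset_span ⟨j, rfl⟩))]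
    simp

variable {X : Scheme.{u}} {E D : X.Modules} {r : ℕ}

theorem exists_affine_frame (hE : FlatMod.IsFinLocFreeOfRank r E) {W : X.Opens} {x : X} (hx : x ∈ W) :
    ∃ (V : X.affineOpens) (s : Fin r → Γ(E, V.1)), x ∈ V.1 ∧ V.1 ≤ W ∧ H23.Frame.IsFrame E s := by
  obtain ⟨U, hxU, ⟨e⟩⟩ := hE x
  obtain ⟨s, hs⟩ := H23.Frame.exists_frame e
  obtain ⟨_, ⟨V, hV, rfl⟩, hxV, hle⟩ :=
    X.isBasis_affineOpens.exists_subset_of_mem_open (show x ∈ W ⊓ U from ⟨hx, hxU⟩) (W ⊓ U).2
  exact ⟨⟨V, hV⟩, _, hxV, hle.trans inf_le_left, hs.res (hle.trans inf_le_right)⟩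

/-- The global wedge of global sections. -/
theorem exists_wedge
    (φ : ∀ U : X.affineOpens, (D.val.obj (op U.1)) ≃ₗ[Γ(X, U.1)] ↥(⋀[Γ(X, U.1)]^r (E.val.obj (op U.1))))
    (hφ : ∀ (U V : X.affineOpens) (h : V.1 ≤ U.1) (e : Fin r → E.val.obj (op U.1)),
      D.val.map (homOfLE h).op ((φ U).symm (exteriorPower.ιMulti _ r e)) =
        (φ V).symm (exteriorPower.ιMulti _ r (fun j => E.val.map (homOfLE h).op (e j))))
    (s : Fin r → Γ(E, ⊤)) :
    ∃ w : Γ(D, ⊤), ∀ V : X.affineOpens,
      res D le_top w = (φ V).symm (exteriorPower.ιMulti _ r fun j => res E le_top (s j)) := by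
  let sf : ∀ V : X.affineOpens, Γ(D, V.1) := fun V =>
    (φ V).symm (exteriorPower.ιMulti _ r fun j => res E le_top (s j))
  have hr : ∀ (U V : X.affineOpens) (h : V.1 ≤ U.1), res D h (sf U) = sf V := fun U V h => by
    refine (hφ U V h _).trans ?_
    show (φ V).symm (exteriorPower.ιMulti _ r fun j => res E h (res E le_top (s j))) = sf V
    simp only [res_res]
    rfl
  obtain ⟨w, hw, -⟩ := existsUnique_glue (M := D) (V := ⊤) (fun V : X.affineOpens => V.1) (fun _ => le_top)
    (fun p _ => by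
      obtain ⟨_, ⟨V, hV, rfl⟩, hp, -⟩ := X.isBasis_affineOpens.exists_subset_of_mem_open
        (Set.mem_univ p) isOpen_univ
      exact ⟨⟨V, hV⟩, hp⟩) sf (fun U V => eq_of_locally _ _ fun p hp => by
      obtain ⟨_, ⟨Q, hQ, rfl⟩, hpQ, hle⟩ := X.isBasis_affineOpens.exists_subset_of_mem_open hp (U.1 ⊓ V.1).2
      refine ⟨Q, hle, hpQ, ?_⟩
      rw [res_res, res_res, hr U ⟨Q, hQ⟩ (le_trans hle inf_le_left), hr V ⟨Q, hQ⟩ (le_trans hle inf_le_right)])
  exact ⟨w, hw⟩

/-- An element of the sectionwise tensor product vanishing on a cover vanishes in the tensor product. -/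
theorem toSheafify_eq_zero (t : (CohB1.tensorPre E D).obj (op ⊤))
    (h : ∀ x : X, ∃ V : X.Opens, x ∈ V ∧
      ((CohB1.tensorPre E D).map (homOfLE (le_top : V ≤ ⊤)).op).hom t = 0) :
    (toSheafify (Opens.grothendieckTopology ↥X) (CohB1.tensorPre E D).presheaf).app (op ⊤) t = 0 := by
  let P := (CohB1.tensorPre E D).presheaf
  let J := Opens.grothendieckTopology ↥X
  show (show Γ(CohB1.tensorMod E D, ⊤) from (toSheafify J P).app (op ⊤) t) = 0
  refine eq_of_locally _ _ fun x _ => ?_
  obtain ⟨V, hxV, hV⟩ := h x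
  refine ⟨V, le_top, hxV, ?_⟩
  rw [map_zero]
  refine (ConcreteCategory.congr_hom ((toSheafify J P).naturality (homOfLE (le_top : V ≤ ⊤)).op) t).symm.trans ?_
  exact (congrArg ((toSheafify J P).app (op V)) hV).trans (map_zero _)

/-- The map from the free module attached to sections over an open. -/
def frameMap {V : X.Opens} (f : Fin r → Γ(E, V)) :
    FlatMod.freeMod (V : Scheme.{u}) r ⟶ E.restrict V.ι :=
  Limits.Sigma.desc fun i => QCoh.homOfTop (P := E.restrict V.ι) (res E (V.ι_image_top.le) (f i))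

theorem frameMap_top {V : X.Opens} (f : Fin r → Γ(E, V)) (c : Fin r → Γ((V : Scheme.{u}), ⊤)) :
    (frameMap f).app ⊤ (H23.Frame.comb (FlatMod.freeMod (V : Scheme.{u}) r)
      (fun i => (H23.Frame.incl (V : Scheme.{u}) r i).app ⊤ (H23.Frame.one ⊤)) ⊤ le_top c) =
    H23.Frame.comb E f (V.ι ''ᵁ ⊤) V.ι_image_top.le c := by
  simp only [H23.Frame.comb, map_sum]
  refine Finset.sum_congr rfl fun i _ => ?_
  refine (Scheme.Modules.Hom.app_smul (frameMap f) (M := FlatMod.freeMod (V : Scheme.{u}) r) _ _).trans ?_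
  refine (H23.Frame.restrict_smul V ⊤ (c i) _).trans ?_
  refine congrArg (fun m : Γ(E, V.ι ''ᵁ ⊤) => (show Γ(X, V.ι ''ᵁ ⊤) from c i) • m) ?_
  rw [H23.Frame.app_one_res (H23.Frame.incl (V : Scheme.{u}) r i) (le_refl ⊤)]
  show (H23.Frame.incl (V : Scheme.{u}) r i ≫ frameMap f).app ⊤ (H23.Frame.one ⊤) = _
  rw [frameMap, H23.Frame.incl, Sigma.ι_desc]
  refine (QCoh.homOfTop_app _ _).trans ?_
  refine (one_smul Γ((V : Scheme.{u}), ⊤) _).trans ?_
  show E.presheaf.map (V.ι.opensFunctor.map (homOfLE (le_refl (⊤ : (V : Scheme.{u}).Opens)))).op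
    (E.presheaf.map (homOfLE V.ι_image_top.le).op (f i)) = _
  rw [← ConcreteCategory.comp_apply, ← E.presheaf.map_comp]
  rfl

theorem isIso_frameMap {V : X.Opens} {f : Fin r → Γ(E, V)} (hf : H23.Frame.IsFrame E f) :
    IsIso (frameMap f) := by
  have hU : V.ι ''ᵁ ⊤ ≤ V := V.ι_image_top.le
  refine Scheme.Modules.Hom.isIso_iff_isIso_app.mpr fun W' => ?_
  rw [ConcreteCategory.isIso_iff_bijective]
  have hb := (H23.Frame.incl_isFrame (X := (V : Scheme.{u})) (n := r)) W' le_top
  have hle : V.ι ''ᵁ W' ≤ V := (Scheme.Hom.image_mono V.ι le_top).trans hU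
  have key : (fun x => (frameMap f).app W' x) ∘ H23.Frame.comb (FlatMod.freeMod (V : Scheme.{u}) r)
        (fun i => (H23.Frame.incl (V : Scheme.{u}) r i).app ⊤ (H23.Frame.one ⊤)) W' le_top =
      H23.Frame.comb E f (V.ι ''ᵁ W') hle := by
    funext c
    simp only [Function.comp, H23.Frame.comb, map_sum]
    refine Finset.sum_congr rfl fun i _ => ?_
    refine (Scheme.Modules.Hom.app_smul (frameMap f) (M := FlatMod.freeMod (V : Scheme.{u}) r) _ _).trans ?_
    refine (H23.Frame.restrict_smul V W' (c i) _).trans ?_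
    refine congrArg (fun m : Γ(E, V.ι ''ᵁ W') => (show Γ(X, V.ι ''ᵁ W') from c i) • m) ?_
    rw [H23.Frame.app_one_res (H23.Frame.incl (V : Scheme.{u}) r i) (le_top (a := W'))]
    show (H23.Frame.incl (V : Scheme.{u}) r i ≫ frameMap f).app W' (H23.Frame.one W') = _
    rw [frameMap, H23.Frame.incl, Sigma.ι_desc]
    refine (QCoh.homOfTop_app _ _).trans ?_
    refine (one_smul Γ((V : Scheme.{u}), W') _).trans ?_
    show E.presheaf.map (V.ι.opensFunctor.map (homOfLE (le_top (a := W')))).op
      (E.presheaf.map (homOfLE hU).op (f i)) = _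
    rw [← ConcreteCategory.comp_apply, ← E.presheaf.map_comp]
    rfl
  exact (Function.Bijective.of_comp_iff _ hb).mp (key ▸ hf _ hle)

/-- Some wedge of the generating sections is nonzero. -/
theorem exists_det_ne_zero [IsIntegral X] {U : X.Opens} {J : Type u} (s : J → (Coh.structureModule X ⟶ E))
    (hs : Epi ((Scheme.Modules.restrictFunctor U.ι).map (Limits.Sigma.desc s)))
    {V : X.Opens} (hVU : V ≤ U) (hV : (V : Set X).Nonempty) (f : Fin r → Γ(E, V))
    (hf : H23.Frame.IsFrame E f) :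
    ∃ j : Fin r → J, (ExtShX.TopExt.bas hf V le_rfl).det
      (fun i => res E le_top ((s (j i)).app ⊤ (H23.Frame.one ⊤))) ≠ 0 := by
  by_contra hall
  push Not at hall
  obtain ⟨x, hx⟩ := hV
  haveI : Nonempty V := ⟨⟨x, hx⟩⟩
  let b := ExtShX.TopExt.bas hf V le_rfl
  let σ : J → Γ(E, V) := fun j => res E le_top ((s j).app ⊤ (H23.Frame.one ⊤))
  let K := FractionRing Γ(X, V)
  let c : J → Fin r → K := fun j i => algebraMap Γ(X, V) K (b.repr (σ j) i)
  have hspan : Submodule.span K (Set.range c) ≠ ⊤ := by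
    intro htop
    obtain ⟨B, hB, hBspan, hBli⟩ := exists_linearIndependent K (Set.range c)
    let β : Module.Basis B K (Fin r → K) :=
      Module.Basis.mk hBli (by rw [Subtype.range_coe_subtype, Set.ofPred_mem_eq, hBspan, htop])
    let e := β.indexEquiv (Pi.basisFun K (Fin r))
    choose j hj using fun i : Fin r => hB (e.symm i).2
    have hu := (Pi.basisFun K (Fin r)).isUnit_det (β.reindex e)
    refine hu.ne_zero ?_
    rw [show ⇑(β.reindex e) = fun i => c (j i) from funext fun i => by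
      rw [Module.Basis.reindex_apply, Module.Basis.mk_apply]; exact (hj i).symm,
      Module.Basis.det_apply, show (Pi.basisFun K (Fin r)).toMatrix (fun i => c (j i)) =
        (algebraMap Γ(X, V) K).mapMatrix (b.toMatrix fun i => σ (j i)) from by
        ext p q; simp [Module.Basis.toMatrix_apply, c],
      ← RingHom.map_det, ← Module.Basis.det_apply, hall j, map_zero]
  obtain ⟨g, hg0, hgS⟩ : ∃ g : (Fin r → K) →ₗ[K] K, g ≠ 0 ∧ ∀ j, g (c j) = 0 := by
    obtain ⟨g, hg0, hgS⟩ := Submodule.exists_le_ker_of_lt_top _ (lt_top_iff_ne_top.2 hspan)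
    exact ⟨g, hg0, fun j => hgS (Submodule.subset_span ⟨j, rfl⟩)⟩
  obtain ⟨D', hD'⟩ := IsLocalization.exist_integer_multiples_of_finite (nonZeroDivisors Γ(X, V))
    fun i : Fin r => g (Pi.single i 1)
  choose a ha using hD'
  have ha0 : ∃ i, a i ≠ 0 := by
    by_contra h
    push Not at h
    refine hg0 (LinearMap.pi_ext' fun i => LinearMap.ext_ring ?_)
    have := ha i
    rw [h i, map_zero] at this
    simpa [Algebra.smul_def, IsFractionRing.to_map_ne_zero_of_mem_nonZeroDivisors D'.2] using this.symm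
  have hac : ∀ j, ∑ i, a i * b.repr (σ j) i = 0 := fun j => by
    apply IsFractionRing.injective Γ(X, V) K
    simp only [map_sum, map_mul, ha, map_zero, Algebra.smul_def]
    rw [show ∑ i, algebraMap Γ(X, V) K D'.1 * g (Pi.single i 1) * algebraMap Γ(X, V) K (b.repr (σ j) i) =
      algebraMap Γ(X, V) K D'.1 * g (c j) by
        rw [show g (c j) = ∑ i, c j i * g (Pi.single i 1) by
          conv_lhs => rw [pi_eq_sum_univ' (c j)]
          simp only [map_sum, map_smul, smul_eq_mul], Finset.mul_sum]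
        exact Finset.sum_congr rfl fun i _ => by simp only [c]; ring, hgS, mul_zero]
  -- the functional as a map of modules
  let Vs : Scheme.{u} := (V : Scheme.{u})
  let t : Γ(X, V) →+* Γ(Vs, ⊤) := resR V.ι_image_top.le
  let proj : FlatMod.freeMod Vs r ⟶ Coh.structureModule Vs :=
    ∑ i, H23.Frame.proj Vs r i ≫ QCoh.homOfTop (P := Coh.structureModule Vs) (t (a i))
  haveI hφ : IsIso (frameMap f) := isIso_frameMap hf
  let ψ : E.restrict V.ι ⟶ Coh.structureModule Vs := inv (frameMap f) ≫ proj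
  have happ : ∀ (W : Vs.Opens) (φ : FlatMod.freeMod Vs r ⟶ Coh.structureModule Vs) (m),
      (inv (frameMap f) ≫ φ).app W ((frameMap f).app W m) = φ.app W m := fun W φ m =>
    (congrArg (fun χ => Scheme.Modules.Hom.app χ W m) (IsIso.hom_inv_id_assoc (frameMap f) φ) :)
  have hincl : ∀ i, proj.app ⊤ ((H23.Frame.incl Vs r i).app ⊤ (H23.Frame.one ⊤)) = t (a i) := fun i => by
    show (H23.Frame.incl Vs r i ≫ proj).app ⊤ (H23.Frame.one ⊤) = _
    rw [show H23.Frame.incl Vs r i ≫ proj = QCoh.homOfTop (P := Coh.structureModule Vs) (t (a i)) by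
      simp only [proj, Preadditive.comp_sum]
      rw [Finset.sum_eq_single i]
      · rw [← Category.assoc, H23.Frame.incl_proj, if_pos rfl, Category.id_comp]
      · intro k _ hk
        rw [← Category.assoc, H23.Frame.incl_proj, if_neg (Ne.symm hk), Limits.zero_comp]
      · intro h; exact absurd (Finset.mem_univ i) h]
    refine (QCoh.homOfTop_app _ _).trans ?_
    refine (one_smul Γ(Vs, ⊤) _).trans ?_
    exact QCoh.map_id' _ _
  let adj := Scheme.Modules.restrictAdjunction V.ι
  have key : ∀ j, s j ≫ adj.homEquiv _ _ ψ = 0 := fun j => by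
    refine AmpleX.eq_zero_of_one_eq_zero _ ?_
    let c₀ : Fin r → Γ(Vs, ⊤) := fun i => t (b.repr (σ j) i)
    let m := H23.Frame.comb (FlatMod.freeMod Vs r)
      (fun i => (H23.Frame.incl Vs r i).app ⊤ (H23.Frame.one ⊤)) ⊤ le_top c₀
    have hs1 : res E le_top ((s j).app ⊤ (H23.Frame.one ⊤)) = (frameMap f).app ⊤ m := by
      refine Eq.trans ?_ (frameMap_top f c₀).symm
      refine Eq.trans (res_res (M := E) le_top V.ι_image_top.le _).symm
        ((congrArg (res E V.ι_image_top.le) (b.sum_repr (σ j))).symm.trans ?_)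
      rw [map_sum]
      refine Finset.sum_congr rfl fun i _ => ?_
      rw [res_smul, ExtShX.TopExt.bas_apply, res_res]
      rfl
    show (adj.homEquiv _ _ ψ).app ⊤ ((s j).app ⊤ (H23.Frame.one ⊤)) = 0
    rw [Adjunction.homEquiv_unit]
    show ψ.app ⊤ (res E (le_top : V.ι ''ᵁ ⊤ ≤ ⊤) ((s j).app ⊤ (H23.Frame.one ⊤))) = 0
    refine (congrArg (ψ.app ⊤) hs1).trans ((happ ⊤ proj m).trans ?_)
    refine (map_sum _ _ _).trans (Eq.trans ?_ ((congrArg t (hac j)).trans (map_zero t)))
    refine Eq.trans ?_ (map_sum t _ _).symm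
    refine Finset.sum_congr rfl fun i _ => ?_
    refine (Scheme.Modules.Hom.app_smul proj (M := FlatMod.freeMod Vs r) _ _).trans ?_
    refine (congrArg ((c₀ i) • ·) ((congrArg (proj.app ⊤) (QCoh.map_id' _ _)).trans (hincl i))).trans ?_
    exact (mul_comm _ _).trans (map_mul t _ _).symm
  have hzero : (Scheme.Modules.restrictFunctor V.ι).map (Limits.Sigma.desc s) ≫ ψ = 0 := by
    refine (adj.homEquiv _ _).injective ?_
    rw [adj.homEquiv_naturality_left]
    refine Limits.Sigma.hom_ext _ _ fun j => ?_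
    rw [Sigma.ι_desc_assoc, key j]
    simp [Adjunction.homEquiv_unit]
  haveI : Epi ((Scheme.Modules.restrictFunctor V.ι).map (Limits.Sigma.desc s)) := by
    let ι := X.homOfLE hVU
    haveI : (Scheme.Modules.restrictFunctor ι).PreservesEpimorphisms :=
      Functor.preservesEpimorphisms_of_adjunction (Scheme.Modules.restrictAdjunction ι)
    haveI : Epi ((Scheme.Modules.restrictFunctor U.ι ⋙ Scheme.Modules.restrictFunctor ι).map (Limits.Sigma.desc s)) :=
      Functor.map_epi (Scheme.Modules.restrictFunctor ι) _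
    exact (MorphismProperty.epimorphisms _).arrow_mk_iso_iff (Arrow.isoMk
      (((Scheme.Modules.restrictFunctorComp ι U.ι).symm ≪≫ Scheme.Modules.restrictFunctorCongr (X.homOfLE_ι hVU)).app _)
      (((Scheme.Modules.restrictFunctorComp ι U.ι).symm ≪≫ Scheme.Modules.restrictFunctorCongr (X.homOfLE_ι hVU)).app _)
      (((Scheme.Modules.restrictFunctorComp ι U.ι).symm ≪≫ Scheme.Modules.restrictFunctorCongr (X.homOfLE_ι hVU)).hom.naturality _).symm) |>.1
        (MorphismProperty.epimorphisms.infer_property _)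
  have hψ : ψ = 0 := by
    rw [← cancel_epi ((Scheme.Modules.restrictFunctor V.ι).map (Limits.Sigma.desc s)), hzero, Limits.comp_zero]
  have hproj : proj = 0 := by
    rw [← cancel_epi (inv (frameMap f)), Limits.comp_zero]
    exact hψ
  obtain ⟨i, hi⟩ := ha0
  refine hi ((map_eq_zero_iff t ?_).1 ((hincl i).symm.trans (by rw [hproj]; rfl)))
  intro p q hpq
  have := congrArg (resR (X := X) (V.ι_image_top.ge)) hpq
  exact (((resR_resR _ _ p).trans (resR_self p)).symm.trans this).trans ((resR_resR _ _ q).trans (resR_self q))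

/-- Multiplication with the determinant has a kernel. -/
theorem not_injective (k : Type u) [Field k] [X.Over (Spec (CommRingCat.of k))] [IsIntegral X]
    (hk : Function.Bijective (X ↘ Spec (CommRingCat.of k)).appTop)
    (hE : FlatMod.IsFinLocFreeOfRank r E)
    {U : X.Opens} {J : Type u} (s : J → (Coh.structureModule X ⟶ E)) (hU : (U : Set X).Nonempty)
    (hs : Epi ((Scheme.Modules.restrictFunctor U.ι).map (Sigma.desc s)))
    (hlt : r < Module.finrank k (Coh.HH X E 0)) (hD : ExtPow.IsExtPow r E D) :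
    ¬ Function.Injective
      ((toSheafify (Opens.grothendieckTopology ↥X) (CohB1.tensorPre E D).presheaf).app (Opposite.op ⊤)) := by
  obtain ⟨φ, hφ⟩ := hD
  obtain ⟨x, hx⟩ := hU
  obtain ⟨V, f, hxV, hVU, hf⟩ := exists_affine_frame hE hx
  obtain ⟨j, hj⟩ := exists_det_ne_zero s hs hVU ⟨x, hxV⟩ f hf
  let σ : Fin r → Γ(E, ⊤) := fun i => (s (j i)).app ⊤ (H23.Frame.one ⊤)
  obtain ⟨a, ha⟩ : ∃ a : Γ(E, ⊤), a ∉ Submodule.span Γ(X, ⊤) (Set.range σ) := by
    by_contra hall
    push Not at hall
    let e : Coh.HH X E 0 ≃+ Γ(E, ⊤) := Sheaf.H.equiv₀ (Coh.toAb E) isTerminalTop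
    have he : ∀ (c : k) (y : Coh.HH X E 0),
        e (c • y) = (show Γ(X, ⊤) from Coh.toGlobal (X ↘ Spec (CommRingCat.of k)) c) • e y := by
      intro c y
      have h := (Sheaf.H.equiv₀_naturality isTerminalTop (Coh.smulAb E (Coh.toGlobal (X ↘ Spec (CommRingCat.of k)) c)) y).symm
      refine (show e (c • y) = _ from h).trans ?_
      show (show Γ(X, ⊤) from Coh.resTop X (op ⊤) _) • e y = _
      congr 1
      show (X.presheaf.map (homOfLE le_top).op).hom _ = _
      rw [show (homOfLE le_top).op = 𝟙 (op (⊤ : X.Opens)) from rfl, X.presheaf.map_id]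
      rfl
    have hsurj : Function.Surjective (Fintype.linearCombination k fun i => e.symm (σ i)) := fun y => by
      obtain ⟨c, hc⟩ := (Submodule.mem_span_range_iff_exists_fun _).1 (hall (e y))
      have hsur : Function.Surjective (Coh.toGlobal (X ↘ Spec (CommRingCat.of k))) :=
        hk.2.comp (Scheme.ΓSpecIso (CommRingCat.of k)).symm.commRingCatIsoToRingEquiv.surjective
      choose c' hc' using fun i => hsur (c i)
      refine ⟨c', e.injective ?_⟩
      simp only [Fintype.linearCombination_apply, map_sum, he, AddEquiv.apply_symm_apply, hc']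
      exact hc
    exact absurd hlt (not_lt.2 ((LinearMap.finrank_le_finrank_of_surjective hsurj).trans (by simp)))
  let v : Fin (r + 1) → Γ(E, ⊤) := Fin.cons a σ
  choose w hw using fun i : Fin (r + 1) => exists_wedge φ hφ (i.removeNth v)
  let e : k ≃+* Γ(X, ⊤) :=
    (Scheme.ΓSpecIso (CommRingCat.of k)).symm.commRingCatIsoToRingEquiv.trans
      (RingEquiv.ofBijective (X ↘ Spec (CommRingCat.of k)).appTop.hom hk)
  let t : (CohB1.tensorPre E D).obj (op ⊤) :=
    (show E.val.obj (op ⊤) ⊗[Γ(X, ⊤)] D.val.obj (op ⊤) from ∑ i : Fin (r + 1), (-1) ^ (i : ℕ) • (v i ⊗ₜ[Γ(X, ⊤)] w i))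
  have ht : t ≠ 0 := by
    refine tmul_sum_ne_zero e v w ?_ ?_
    · simpa [v] using ha
    intro h0
    have h1 : (φ V).symm (exteriorPower.ιMulti _ r fun i => res E le_top (σ i)) = 0 := by
      refine Eq.trans ?_ ((congrArg (res D (le_top (a := V.1))) h0).trans (map_zero _))
      rw [hw 0 V]
      simp [v, Fin.removeNth_zero]
    rw [LinearEquiv.map_eq_zero_iff] at h1
    refine hj ?_
    have h2 := congrArg (exteriorPower.alternatingMapLinearEquiv (ExtShX.TopExt.bas hf V.1 le_rfl).det) h1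
    exact (exteriorPower.alternatingMapLinearEquiv_apply_ιMulti _ _).symm.trans (h2.trans (map_zero _))
  intro hinj
  refine ht (hinj ((toSheafify_eq_zero t fun y => ?_).trans (map_zero _).symm))
  obtain ⟨Q, g, hyQ, -, hg⟩ := exists_affine_frame hE (W := ⊤) (x := y) trivial
  refine ⟨Q.1, hyQ, ?_⟩
  refine Eq.trans ?_ (cramer (ExtShX.TopExt.bas hg Q.1 le_rfl) (φ Q) fun i => res E le_top (v i))
  refine (map_sum _ _ _).trans (Finset.sum_congr rfl fun i _ => ?_)
  refine (map_zsmul _ _ _).trans (congrArg ((-1 : ℤ) ^ (i : ℕ) • ·) ?_)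
  refine (PresheafOfModules.Monoidal.tensorObj_map_tmul (M₁ := CohB1.toPMod E) (M₂ := CohB1.toPMod D)
    (homOfLE (le_top : Q.1 ≤ ⊤)).op (v i) (w i)).trans ?_
  show res E (le_top (a := Q.1)) (v i) ⊗ₜ[Γ(X, Q.1)] res D (le_top (a := Q.1)) (w i) = _
  rw [hw i Q]
  rfl

end Groth.Agent.DetKernel
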